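import Cfsg.Agent.H562.PQR.GowRoot
import Cfsg.Agent.H153.PrimeGraphThree
import Cfsg.Agent.S2086
import Cfsg.Agent.S2111
import Cfsg.Agent.S2112
import Cfsg.Agent.S2113
import Cfsg.Agent.S1159
import Cfsg.Agent.S1163
import Cfsg.Agent.TwoFusion.SLTwoFacts
import Cfsg.Agent.ClassicalGeometry.PSL2Solvable
import Cfsg.Agent.H57.TTRee
import Cfsg.Agent.SignalizersComponents.BalEndSz

/-!
# S3988 (helper562), rows of `PSL₂(q)`, `Sz(q)`, `²G₂(q)` (helper528)
-/

set_option autoImplicit false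

namespace Cfsg.Agent.H528.PQR

open Cfsg Subgroup
open Cfsg.Agent.H562.PQR
open Cfsg.Agent.H80.Fpf (IsCover MultDvd)

/-- no elements of order `a r`: the centraliser of an element of order `a` has order prime to `r` -/
theorem not_dvd_cent {G : Type*} [Group G] [Finite G] {a r : ℕ} (ha : a.Prime) (hr : r.Prime) (har : a ≠ r)
    (h : ¬ ∃ g : G, orderOf g = a * r) {x : G} (hx : orderOf x = a) :
    ¬ r ∣ Nat.card ↥(centralizer ({x} : Set G)) := by
  intro hd
  have : Fact r.Prime := ⟨hr⟩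
  obtain ⟨u, hu⟩ := exists_prime_orderOf_dvd_card' r hd
  have hu1 : orderOf (u : G) = r := by rw [Subgroup.orderOf_coe]; exact hu
  have hc : Commute x (u : G) := (mem_centralizer_singleton_iff.1 u.2).symm
  refine h ⟨x * (u : G), ?_⟩
  rw [hc.orderOf_mul_eq_mul_orderOf_of_coprime (by rw [hx, hu1]; exact (Nat.coprime_primes ha hr).2 har), hx, hu1]

/-- triples `(a, b, c)` from regular elements of order `a`, `b` -/
theorem trip_reg {G : Type*} [Group G] [Finite G] {r : ℕ} (hr : r.Prime) (hG : IsLieTypeChar r G) {a b c : ℕ}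
    (ha : a.Prime) (hb : b.Prime) (hc : c.Prime) (hab : a ≠ b) (har : a ≠ r) (hbr : b ≠ r)
    (haG : a ∣ Nat.card G) (hbG : b ∣ Nat.card G) (hcG : c ∣ Nat.card G) (h1 : ¬ ∃ g : G, orderOf g = a * r)
    (h2 : ¬ ∃ g : G, orderOf g = b * r) : ∃ x y z : G, PE a x ∧ PE b y ∧ PE c z ∧ x * y * z = 1 := by
  have : Fact a.Prime := ⟨ha⟩
  have : Fact b.Prime := ⟨hb⟩
  obtain ⟨x, hx⟩ := exists_prime_orderOf_dvd_card' a haG
  obtain ⟨y, hy⟩ := exists_prime_orderOf_dvd_card' b hbG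
  have hx1 := not_dvd_cent ha hr har h1 hx
  have hy1 := not_dvd_cent hb hr hbr h2 hy
  by_cases hcr : c = r
  · subst hcr
    exact tri_char hr hG ha hb hab (PE.of_orderOf ha hx) (PE.of_orderOf hb hy) hx1 hy1
  · exact tri_reg hr hG hc hcr hcG (PE.of_orderOf ha hx) (PE.of_orderOf hb hy) hx1 hy1

section PSL

variable {F : Type} [Field F] [Fintype F]

local notation "L2" => Matrix.ProjectiveSpecialLinearGroup (Fin 2) F

theorem psl_no (r : ℕ) [Fact r.Prime] [CharP F r] {a : ℕ} (ha : a.Prime) : ¬ ∃ g : L2, orderOf g = a * r := by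
  have hr : r.Prime := Fact.out
  have hrq : r ∣ Fintype.card F := by
    obtain ⟨n, -, hn⟩ := FiniteField.card F r
    rw [hn]
    exact dvd_pow_self r n.2.ne'
  have hq := Fintype.one_lt_card (α := F)
  have hd : ∀ m : ℕ, m ∣ Fintype.card F + 1 ∨ m ∣ Fintype.card F - 1 → ¬ a * r ∣ m := by
    rintro m hm h
    have h1 : r ∣ m := (Dvd.intro_left a rfl).trans h
    rcases hm with hm | hm
    · have h2 := (Nat.dvd_add_right hrq).1 (h1.trans hm)
      exact hr.one_lt.ne' (Nat.dvd_one.1 h2)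
    · have h2 := Nat.dvd_sub hrq (h1.trans hm)
      rw [Nat.sub_sub_self hq.le] at h2
      exact hr.one_lt.ne' (Nat.dvd_one.1 h2)
  rintro ⟨g, hg⟩
  rcases Cfsg.Agent.H153.PrimeGraphThree.psl2_orders r g with h | h | h
  · rw [hg] at h
    have h1 := Nat.le_of_dvd hr.pos h
    have h2 := ha.two_le
    nlinarith [hr.pos]
  · rw [hg] at h
    exact hd _ (Or.inl (Nat.div_dvd_of_dvd (by
      rcases Nat.even_or_odd (Fintype.card F) with h3 | h3
      · have h4 : Nat.gcd 2 (Fintype.card F - 1) = 1 := by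
          exact Nat.coprime_two_left.2 (Nat.Even.sub_odd hq.le h3 odd_one)
        rw [h4]; exact one_dvd _
      · have h4 : Nat.gcd 2 (Fintype.card F - 1) = 2 := Nat.gcd_eq_left (Nat.Odd.sub_odd h3 odd_one).two_dvd
        rw [h4]; exact (h3.add_odd odd_one).two_dvd))) h
  · rw [hg] at h
    exact hd _ (Or.inr (Nat.div_dvd_of_dvd (Nat.gcd_dvd_right _ _))) h

theorem isLie_psl {r : ℕ} [CharP F r] (h4 : 4 ≤ Fintype.card F) : IsLieTypeChar r L2 :=
  Or.inl ⟨F, inferInstance, inferInstance, inferInstance, 2, le_rfl, fun _ => h4, ⟨MulEquiv.refl _⟩⟩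

/-- the primes dividing the order -/
theorem dvd_card_psl {s : ℕ} (hs : s.Prime) (hs2 : s ≠ 2) :
    s ∣ Nat.card L2 ↔ s ∣ Fintype.card F * (Fintype.card F ^ 2 - 1) := by
  rw [← Cfsg.Agent.ClassicalGeometry.PSL2Basic.card_PSL2_gcd]
  refine ⟨fun h => h.mul_right _, fun h => ((Nat.Prime.dvd_mul hs).1 h).resolve_right fun h1 => ?_⟩
  have h2 := (Nat.prime_dvd_prime_iff_eq hs Nat.prime_two).1 (h1.trans (Nat.gcd_dvd_left _ _))
  exact hs2 h2

theorem two_dvd_psl : 2 ∣ Nat.card L2 := by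
  rcases Nat.even_or_odd (Fintype.card F) with h | h
  · rw [Cfsg.Agent.ClassicalGeometry.PSL2Basic.card_PSL2_even F h]
    exact h.two_dvd.mul_right _
  · have h1 := Cfsg.Agent.ClassicalGeometry.PSL2Basic.card_PSL2_odd (F := F) h
    obtain ⟨k, hk⟩ := h
    rw [hk] at h1
    have h2 : (2 * k + 1) ^ 2 - 1 = 4 * (k * (k + 1)) := by
      have : (2 * k + 1) ^ 2 = 4 * (k * (k + 1)) + 1 := by ring
      rw [this, Nat.add_sub_cancel]
    rw [h2] at h1
    obtain ⟨j, hj⟩ := (Nat.even_mul_succ_self k).two_dvd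
    rw [hj] at h1
    refine ⟨(2 * k + 1) * (2 * j), ?_⟩
    have h3 : (2 * k + 1) * (4 * (2 * j)) = (2 * ((2 * k + 1) * (2 * j))) * 2 := by ring
    rw [h3] at h1
    exact Nat.eq_of_mul_eq_mul_right (by norm_num) h1

/-- **the triples of `PSL₂(q)`** -/
theorem tripABC_psl (r : ℕ) [Fact r.Prime] [CharP F r] (h4 : 4 ≤ Fintype.card F) {a b : ℕ}
    (ha : a.Prime) (hb : b.Prime) (hab : a ≠ b) (har : a ≠ r) (hbr : b ≠ r)
    (haG : a ∣ Nat.card L2) (hbG : b ∣ Nat.card L2) : TripABC a b r L2 := by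
  have hr : r.Prime := Fact.out
  have hG : IsLieTypeChar r L2 := isLie_psl h4
  have hrq : r ∣ Fintype.card F := by
    obtain ⟨n, -, hn⟩ := FiniteField.card F r
    rw [hn]
    exact dvd_pow_self r n.2.ne'
  have hrG : r ∣ Nat.card L2 := by
    by_cases hr2 : r = 2
    · rw [hr2]; exact two_dvd_psl
    · exact (dvd_card_psl hr hr2).2 (hrq.mul_right _)
  obtain ⟨x, y, z, hx, hy, hz, h1⟩ := trip_reg hr hG ha hb hr hab har hbr haG hbG hrG
    (psl_no r ha) (psl_no r hb)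
  by_cases hq : Fintype.card F = 4 ∨ Fintype.card F = 9
  · refine ⟨ha, hb, hr, hab, har, hbr, x, y, z, hx, hy, hz, h1, fun s hs hs2 h3 h4' h5 h6 => ?_⟩
    exfalso
    have key : ∀ t : ℕ, t.Prime → t ∣ Nat.card L2 → t = 2 ∨ t = 3 ∨ t = 5 := by
      intro t ht htG
      by_cases ht2 : t = 2
      · exact Or.inl ht2
      rw [dvd_card_psl ht ht2] at htG
      rcases hq with hq | hq
      · rw [hq] at htG
        have h7 : t ∣ 2 ^ 2 * 3 * 5 := by
          have : 4 * (4 ^ 2 - 1) = 2 ^ 2 * 3 * 5 := by norm_num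
          rwa [this] at htG
        rcases (Nat.Prime.dvd_mul ht).1 h7 with h8 | h8
        · rcases (Nat.Prime.dvd_mul ht).1 h8 with h9 | h9
          · exact Or.inl ((Nat.prime_dvd_prime_iff_eq ht Nat.prime_two).1 (ht.dvd_of_dvd_pow h9))
          · exact Or.inr (Or.inl ((Nat.prime_dvd_prime_iff_eq ht Nat.prime_three).1 h9))
        · exact Or.inr (Or.inr ((Nat.prime_dvd_prime_iff_eq ht Nat.prime_five).1 h8))
      · rw [hq] at htG
        have h7 : t ∣ 3 ^ 2 * 2 ^ 4 * 5 := by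
          have : 9 * (9 ^ 2 - 1) = 3 ^ 2 * 2 ^ 4 * 5 := by norm_num
          rwa [this] at htG
        rcases (Nat.Prime.dvd_mul ht).1 h7 with h8 | h8
        · rcases (Nat.Prime.dvd_mul ht).1 h8 with h9 | h9
          · exact Or.inr (Or.inl ((Nat.prime_dvd_prime_iff_eq ht Nat.prime_three).1 (ht.dvd_of_dvd_pow h9)))
          · exact Or.inl ((Nat.prime_dvd_prime_iff_eq ht Nat.prime_two).1 (ht.dvd_of_dvd_pow h9))
        · exact Or.inr (Or.inr ((Nat.prime_dvd_prime_iff_eq ht Nat.prime_five).1 h8))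
    have hr23 : r = 2 ∨ r = 3 := by
      rcases hq with hq | hq
      · rw [hq] at hrq
        exact Or.inl ((Nat.prime_dvd_prime_iff_eq hr Nat.prime_two).1 (hr.dvd_of_dvd_pow (show r ∣ 2 ^ 2 from hrq)))
      · rw [hq] at hrq
        exact Or.inr ((Nat.prime_dvd_prime_iff_eq hr Nat.prime_three).1 (hr.dvd_of_dvd_pow (show r ∣ 3 ^ 2 from hrq)))
    have k1 := key a ha haG
    have k2 := key b hb hbG
    have k3 := key s hs h6
    omega
  · push Not at hq
    have hm : MultDvd L2 (Nat.gcd 2 (Fintype.card F - 1)) :=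
      Cfsg.Agent.H80.Fpf.multDvd_of_cyclic (Nat.gcd_pos_of_pos_left _ (by norm_num)).ne'
        (Cfsg.Agent.S2086.result rfl 2 le_rfl (fun _ => h4) (by
          simp only [Set.mem_insert_iff, Set.mem_singleton_iff, Prod.mk.injEq, not_or, not_and]
          refine ⟨fun _ => hq.1, fun _ => hq.2, ?_, ?_, ?_⟩ <;> intro h <;> omega))
    refine TripABC.of_mult hm (fun s hs hsm => ?_) ha hb hr hab har hbr hx hy hz h1
    exact Or.inl ((Nat.prime_dvd_prime_iff_eq hs Nat.prime_two).1 (hsm.trans (Nat.gcd_dvd_left _ _)))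

/-- **S3988, the row `PSL₂(q)`** -/
theorem row_psl2 (F : Type) [Field F] [Fintype F] (hF : 4 ≤ Fintype.card F) :
    Row (Matrix.ProjectiveSpecialLinearGroup (Fin 2) F) := by
  intro p hp hpG
  right
  obtain ⟨r, hchar⟩ := CharP.exists F
  have hr : r.Prime := CharP.char_is_prime F r
  have : Fact r.Prime := ⟨hr⟩
  have : Fact p.Prime := ⟨hp⟩
  have hrq : r ∣ Fintype.card F := by
    obtain ⟨n, -, hn⟩ := FiniteField.card F r
    rw [hn]
    exact dvd_pow_self r n.2.ne'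
  have hq2 : Fintype.card F ^ 2 - 1 = (Fintype.card F + 1) * (Fintype.card F - 1) := by
    have := Nat.sq_sub_sq (Fintype.card F) 1
    simpa using this
  have hnr : ∀ s : ℕ, s.Prime → s ∣ Fintype.card F ^ 2 - 1 → s ≠ r := by
    rintro s hs hd rfl
    have h1 : s ∣ Fintype.card F ^ 2 := dvd_pow hrq two_ne_zero
    have h2 := Nat.dvd_sub h1 hd
    rw [Nat.sub_sub_self (Nat.one_le_pow _ _ (by omega))] at h2
    exact hs.one_lt.ne' (Nat.dvd_one.1 h2)
  by_cases hr2 : r = 2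
  · -- even
    subst hr2
    have hev : Even (Fintype.card F) := even_iff_two_dvd.2 hrq
    have hm1 : Odd (Fintype.card F - 1) := Nat.Even.sub_odd (by omega) hev odd_one
    have hp1 : Odd (Fintype.card F + 1) := hev.add_odd odd_one
    have hex : ∀ n : ℕ, n = Fintype.card F - 1 ∨ n = Fintype.card F + 1 → ∃ t : ℕ, t.Prime ∧ t ∣ n ∧ t ≠ 2 := by
      intro n hn
      refine ⟨n.minFac, Nat.minFac_prime (by omega), Nat.minFac_dvd n, fun h => ?_⟩
      have h1 : 2 ∣ n := by rw [← h]; exact Nat.minFac_dvd n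
      rcases hn with rfl | rfl
      · exact (Nat.not_even_iff_odd.2 hm1) (even_iff_two_dvd.2 h1)
      · exact (Nat.not_even_iff_odd.2 hp1) (even_iff_two_dvd.2 h1)
    have hcop : ∀ s t : ℕ, s.Prime → s ∣ Fintype.card F - 1 → t ∣ Fintype.card F + 1 → s ≠ 2 → s ≠ t := by
      rintro s t hs h1 h2 h3 rfl
      have h4 := Nat.dvd_sub h2 h1
      have h5 : Fintype.card F + 1 - (Fintype.card F - 1) = 2 := by omega
      rw [h5] at h4
      exact h3 ((Nat.prime_dvd_prime_iff_eq hs Nat.prime_two).1 h4)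
    have hdv : ∀ s : ℕ, s.Prime → s ≠ 2 → (s ∣ Fintype.card F - 1 ∨ s ∣ Fintype.card F + 1) →
        s ∣ Nat.card (Matrix.ProjectiveSpecialLinearGroup (Fin 2) F) := by
      intro s hs hs2 h
      rw [dvd_card_psl hs hs2, hq2]
      rcases h with h | h
      · exact Dvd.dvd.mul_left (Dvd.dvd.mul_left h _) _
      · exact Dvd.dvd.mul_left (Dvd.dvd.mul_right h _) _
    have main : ∀ s t : ℕ, s.Prime → t.Prime → s ∣ Fintype.card F - 1 → t ∣ Fintype.card F + 1 → s ≠ 2 → t ≠ 2 →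
        TripABC s t 2 (Matrix.ProjectiveSpecialLinearGroup (Fin 2) F) := fun s t hs ht h1 h2 h3 h4 =>
      tripABC_psl 2 hF hs ht (hcop s t hs h1 h2 h3) h3 h4 (hdv s hs h3 (Or.inl h1)) (hdv t ht h4 (Or.inr h2))
    obtain ⟨s, hs, hs1, hs2⟩ := hex _ (Or.inl rfl)
    obtain ⟨t, ht, ht1, ht2⟩ := hex _ (Or.inr rfl)
    by_cases hp2 : p = 2
    · exact ⟨s, t, 2, Or.inr (Or.inr hp2), Or.inr (Or.inr rfl), main s t hs ht hs1 ht1 hs2 ht2⟩
    rw [dvd_card_psl hp hp2, hq2] at hpG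
    rcases (Nat.Prime.dvd_mul hp).1 hpG with h | h
    · obtain ⟨n, -, hn⟩ := FiniteField.card F 2
      rw [hn] at h
      exact absurd ((Nat.prime_dvd_prime_iff_eq hp Nat.prime_two).1 (hp.dvd_of_dvd_pow h)) hp2
    rcases (Nat.Prime.dvd_mul hp).1 h with h | h
    · exact ⟨s, p, 2, Or.inr (Or.inl rfl), Or.inr (Or.inr rfl), main s p hs hp hs1 h hs2 hp2⟩
    · exact ⟨p, t, 2, Or.inl rfl, Or.inr (Or.inr rfl), main p t hp ht h ht1 hp2 ht2⟩
  · -- odd
    have hodd : Odd (Fintype.card F) := by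
      obtain ⟨n, -, hn⟩ := FiniteField.card F r
      rw [hn]
      exact (hr.odd_of_ne_two hr2).pow
    have main : ∀ b : ℕ, b.Prime → b ≠ 2 → b ∣ Fintype.card F ^ 2 - 1 →
        TripABC 2 b r (Matrix.ProjectiveSpecialLinearGroup (Fin 2) F) := fun b hb hb2 hd =>
      tripABC_psl r hF Nat.prime_two hb hb2.symm (Ne.symm hr2) (hnr b hb hd) two_dvd_psl
        ((dvd_card_psl hb hb2).2 (hd.mul_left _))
    by_cases hpb : p ≠ 2 ∧ p ∣ Fintype.card F ^ 2 - 1
    · exact ⟨2, p, r, Or.inr (Or.inl rfl), Or.inl rfl, main p hp hpb.1 hpb.2⟩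
    have hpr : p = 2 ∨ p = r := by
      by_cases hp2 : p = 2
      · exact Or.inl hp2
      right
      rw [dvd_card_psl hp hp2] at hpG
      rcases (Nat.Prime.dvd_mul hp).1 hpG with h | h
      · obtain ⟨n, -, hn⟩ := FiniteField.card F r
        rw [hn] at h
        exact (Nat.prime_dvd_prime_iff_eq hp hr).1 (hp.dvd_of_dvd_pow h)
      · exact absurd ⟨hp2, h⟩ hpb
    -- an odd prime dividing `q² - 1`
    obtain ⟨b, hb, hb2, hbd⟩ : ∃ b : ℕ, b.Prime ∧ b ≠ 2 ∧ b ∣ Fintype.card F ^ 2 - 1 := by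
      by_contra hcon
      push Not at hcon
      have hpow : ∀ n : ℕ, n ∣ Fintype.card F ^ 2 - 1 → n ≠ 0 → ∃ k : ℕ, n = 2 ^ k := by
        intro n hn hn0
        refine ⟨_, Nat.eq_prime_pow_of_unique_prime_dvd hn0 fun {d} hd hdn => ?_⟩
        by_contra h
        exact hcon d hd h (hdn.trans hn)
      obtain ⟨i, hi⟩ := hpow (Fintype.card F - 1) (by rw [hq2]; exact dvd_mul_left _ _) (by omega)
      obtain ⟨j, hj⟩ := hpow (Fintype.card F + 1) (by rw [hq2]; exact dvd_mul_right _ _) (by omega)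
      have h4 : ¬ 4 ∣ Fintype.card F - 1 ∨ ¬ 4 ∣ Fintype.card F + 1 := by omega
      have h5 : ∀ k n : ℕ, n = 2 ^ k → ¬ 4 ∣ n → n ≤ 2 := by
        intro k n hn h
        rcases Nat.lt_or_ge k 2 with hk | hk
        · interval_cases k <;> omega
        · exfalso
          apply h
          rw [hn, show (4 : ℕ) = 2 ^ 2 by norm_num]
          exact pow_dvd_pow 2 hk
      rcases h4 with h4 | h4
      · have := h5 i _ hi h4; omega
      · have := h5 j _ hj h4; omega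
    refine ⟨2, b, r, ?_, Or.inl rfl, main b hb hb2 hbd⟩
    rcases hpr with h | h
    · exact Or.inl h
    · exact Or.inr (Or.inr h)

end PSL

section Sz

theorem sz_no {S : Type} [Group S] [Finite S] (h : Cfsg.Lie.IsoSuzuki S) {a : ℕ} (ha : a.Prime) (ha2 : a ≠ 2) :
    ¬ ∃ g : S, orderOf g = a * 2 := by
  rintro ⟨g, hg⟩
  have h1 : orderOf (g ^ a) = 2 := by
    rw [orderOf_pow_of_dvd ha.ne_zero (by rw [hg]; exact dvd_mul_right _ _), hg, Nat.mul_div_cancel_left _ ha.pos]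
  have h2 := Cfsg.Agent.SignalizersComponents.BalEndSz.isPGroup_centralizer_suzuki h h1
  have h3 : g ∈ centralizer ({g ^ a} : Set S) := by
    rw [mem_centralizer_singleton_iff]
    exact (Commute.pow_right (Commute.refl g) a).eq
  obtain ⟨k, hk⟩ := h2 ⟨g, h3⟩
  have h4 : g ^ 2 ^ k = 1 := congrArg Subtype.val hk
  have h5 := orderOf_dvd_of_pow_eq_one h4
  rw [hg] at h5
  exact ha2 ((Nat.prime_dvd_prime_iff_eq ha Nat.prime_two).1 (ha.dvd_of_dvd_pow ((dvd_mul_right a 2).trans h5)))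

/-- **S3988, the row of the Suzuki groups** -/
theorem row_sz {S : Type} [Group S] (h : Cfsg.Lie.IsoSuzuki S) : Row S := by
  obtain ⟨F, iF, iF', m, hm, hF, ⟨e⟩⟩ := h
  refine Row.congr e.symm ?_
  have hiso : Cfsg.Lie.IsoSuzuki ↥(Cfsg.Lie.Sz F (2 ^ (m + 1))) := ⟨F, iF, iF', m, hm, hF, ⟨MulEquiv.refl _⟩⟩
  have hG : IsLieTypeChar 2 ↥(Cfsg.Lie.Sz F (2 ^ (m + 1))) := by
    unfold IsLieTypeChar
    tauto
  have hcard := (Cfsg.Agent.S1163.result hm hF).1
  generalize hQ : 2 ^ (2 * m + 1) = q at hcard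
  have hq8 : 8 ≤ q := by
    rw [← hQ]
    calc 8 = 2 ^ 3 := by norm_num
      _ ≤ 2 ^ (2 * m + 1) := Nat.pow_le_pow_right (by norm_num) (by omega)
  have hev : Even q := by rw [← hQ]; exact Nat.even_pow.2 ⟨even_two, by omega⟩
  have hm1 : Odd (q - 1) := Nat.Even.sub_odd (by omega) hev odd_one
  have hp1 : Odd (q ^ 2 + 1) := (hev.pow_of_ne_zero two_ne_zero).add_odd odd_one
  have hmult : ∃ n : ℕ, (∀ s : ℕ, s.Prime → s ∣ n → s = 2) ∧ MultDvd ↥(Cfsg.Lie.Sz F (2 ^ (m + 1))) n := by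
    rcases Nat.lt_or_ge m 2 with h2 | h2
    · obtain rfl : m = 1 := by omega
      refine ⟨Nat.card (Multiplicative (ZMod 2 × ZMod 2)), fun s hs hd => ?_,
        Cfsg.Agent.H80.Fpf.multDvd_of (Cfsg.Agent.S2112.result (by rw [hF]; norm_num))⟩
      rw [Nat.card_congr Multiplicative.toAdd, Nat.card_prod, Nat.card_zmod] at hd
      exact (Nat.prime_dvd_prime_iff_eq hs Nat.prime_two).1 (hs.dvd_of_dvd_pow (show s ∣ 2 ^ 2 from hd))
    · exact ⟨1, fun s hs hd => absurd (Nat.dvd_one.1 hd) hs.one_lt.ne',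
        Cfsg.Agent.H80.Fpf.multDvd_of_cyclic one_ne_zero (Cfsg.Agent.S2111.result h2 hF)⟩
  obtain ⟨n, hn, hM⟩ := hmult
  have main : ∀ a b : ℕ, a.Prime → b.Prime → a ∣ q - 1 → b ∣ q ^ 2 + 1 →
      TripABC a b 2 ↥(Cfsg.Lie.Sz F (2 ^ (m + 1))) := by
    intro a b ha hb ha1 hb1
    have ha2 : a ≠ 2 := by
      rintro rfl
      exact (Nat.not_even_iff_odd.2 hm1) (even_iff_two_dvd.2 ha1)
    have hb2 : b ≠ 2 := by
      rintro rfl
      exact (Nat.not_even_iff_odd.2 hp1) (even_iff_two_dvd.2 hb1)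
    have hab : a ≠ b := by
      rintro rfl
      have h1 : q ^ 2 + 1 = (q - 1) * (q + 1) + 2 := by
        obtain ⟨k, rfl⟩ : ∃ k, q = k + 1 := ⟨q - 1, by omega⟩
        rw [Nat.add_sub_cancel]; ring
      rw [h1] at hb1
      have h2 := (Nat.dvd_add_right (ha1.mul_right (q + 1))).1 hb1
      exact ha2 ((Nat.prime_dvd_prime_iff_eq ha Nat.prime_two).1 h2)
    have haG : a ∣ Nat.card ↥(Cfsg.Lie.Sz F (2 ^ (m + 1))) := by
      rw [hcard]; exact (ha1.mul_left _).mul_right _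
    have hbG : b ∣ Nat.card ↥(Cfsg.Lie.Sz F (2 ^ (m + 1))) := by
      rw [hcard]; exact hb1.mul_left _
    have h2G : 2 ∣ Nat.card ↥(Cfsg.Lie.Sz F (2 ^ (m + 1))) := by
      rw [hcard]; exact ((dvd_pow hev.two_dvd two_ne_zero).mul_right _).mul_right _
    obtain ⟨x, y, z, hx, hy, hz, h1⟩ := trip_reg Nat.prime_two hG ha hb Nat.prime_two hab ha2 hb2
      haG hbG h2G (sz_no hiso ha ha2) (sz_no hiso hb hb2)
    exact TripABC.of_mult hM (fun s hs hsm => Or.inl (hn s hs hsm)) ha hb Nat.prime_two hab ha2 hb2 hx hy hz h1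
  intro p hp hpG
  right
  have ha := Nat.minFac_prime (n := q - 1) (by omega)
  have hb := Nat.minFac_prime (n := q ^ 2 + 1) (by
    have : 0 < q ^ 2 := by positivity
    omega)
  rw [hcard] at hpG
  rcases (Nat.Prime.dvd_mul hp).1 hpG with h | h
  · rcases (Nat.Prime.dvd_mul hp).1 h with h | h
    · rw [← hQ] at h
      have hp2 : p = 2 := (Nat.prime_dvd_prime_iff_eq hp Nat.prime_two).1 (hp.dvd_of_dvd_pow (hp.dvd_of_dvd_pow h))
      exact ⟨_, _, 2, Or.inr (Or.inr hp2), Or.inr (Or.inr rfl),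
        main _ _ ha hb (Nat.minFac_dvd _) (Nat.minFac_dvd _)⟩
    · exact ⟨p, _, 2, Or.inl rfl, Or.inr (Or.inr rfl), main _ _ hp hb h (Nat.minFac_dvd _)⟩
  · exact ⟨_, p, 2, Or.inr (Or.inl rfl), Or.inr (Or.inr rfl), main _ _ ha hp (Nat.minFac_dvd _) h⟩

end Sz

section Ree

/-- **S3988, the row of the small Ree groups** -/
theorem row_ree {S : Type} [Group S] (h : Cfsg.Lie.IsoRee S) : RowOdd S := by
  obtain ⟨K, iK, iK', m, hm, hK, ⟨e⟩⟩ := h
  refine RowOdd.congr e.symm ?_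
  have hG : IsLieTypeChar 3 ↥(Cfsg.Lie.twistedG2 K (3 ^ m)) := by
    have : Cfsg.Lie.IsoRee ↥(Cfsg.Lie.twistedG2 K (3 ^ m)) := ⟨K, iK, iK', m, hm, hK, ⟨MulEquiv.refl _⟩⟩
    unfold IsLieTypeChar
    tauto
  have hfin : Finite ↥(Cfsg.Lie.twistedG2 K (3 ^ m)) := Cfsg.Agent.H57.TTRee.finite_ree hK
  have hcard := Cfsg.Agent.ChevalleyStructure.ReeCount.card_twistedG2 (m := m) hK
  have hM : MultDvd ↥(Cfsg.Lie.twistedG2 K (3 ^ m)) 1 :=
    Cfsg.Agent.H80.Fpf.multDvd_of_cyclic one_ne_zero (Cfsg.Agent.S2113.result hm hK)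
  have hq27 : 27 ≤ 3 ^ (2 * m + 1) := by
    calc 27 = 3 ^ 3 := by norm_num
      _ ≤ 3 ^ (2 * m + 1) := Nat.pow_le_pow_right (by norm_num) (by omega)
  have h3q : 3 ∣ 3 ^ (2 * m + 1) := dvd_pow_self 3 (by omega)
  have h3r : 3 ∣ 3 ^ (m + 1) := dvd_pow_self 3 (by omega)
  have hr_le : 3 ^ (m + 1) ≤ 3 ^ (2 * m + 1) := Nat.pow_le_pow_right (by norm_num) (by omega)
  have hmod : 3 ^ (2 * m + 1) % 4 = 3 := by
    rw [pow_succ, pow_mul, Nat.mul_mod, Nat.pow_mod]
    norm_num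
  have hno : ∀ a : ℕ, a.Prime → a ≠ 2 → a ≠ 3 → ¬ ∃ g : ↥(Cfsg.Lie.twistedG2 K (3 ^ m)), orderOf g = a * 3 := by
    intro a ha ha2 ha3 h1
    rw [Cfsg.Agent.S1159.result hm hK] at h1
    rcases h1 with h1 | h1 | h1 | h1 | h1 | h1
    · have h2 : a ∣ 2 := Nat.dvd_of_mul_dvd_mul_right (k := 3) (by norm_num) (by simpa using h1)
      exact ha2 ((Nat.prime_dvd_prime_iff_eq ha Nat.prime_two).1 h2)
    · have h2 : a ∣ 3 := Nat.dvd_of_mul_dvd_mul_right (k := 3) (by norm_num) (by simpa using h1)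
      exact ha3 ((Nat.prime_dvd_prime_iff_eq ha Nat.prime_three).1 h2)
    · have h2 : 3 ∣ 3 ^ (2 * m + 1) - 1 := (dvd_mul_left 3 a).trans h1
      omega
    · have h2 : 3 ∣ 3 ^ (2 * m + 1) + 1 :=
        ((dvd_mul_left 3 a).trans h1).trans (Nat.div_dvd_of_dvd (by omega))
      omega
    · have h2 : 3 ∣ 3 ^ (2 * m + 1) - 3 ^ (m + 1) + 1 := (dvd_mul_left 3 a).trans h1
      omega
    · have h2 : 3 ∣ 3 ^ (2 * m + 1) + 3 ^ (m + 1) + 1 := (dvd_mul_left 3 a).trans h1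
      omega
  generalize hQ : 3 ^ (2 * m + 1) = q at hcard hq27 h3q hmod
  clear hr_le h3r
  have h3 : q ^ 3 + 1 = (q + 1) * (q * (q - 1) + 1) := by
    obtain ⟨k, rfl⟩ : ∃ k, q = k + 1 := ⟨q - 1, by omega⟩
    rw [Nat.add_sub_cancel]; ring
  have main : ∀ a b : ℕ, a.Prime → b.Prime → a ≠ b → a ≠ 2 → a ≠ 3 → b ≠ 2 → b ≠ 3 →
      a ∣ Nat.card ↥(Cfsg.Lie.twistedG2 K (3 ^ m)) → b ∣ Nat.card ↥(Cfsg.Lie.twistedG2 K (3 ^ m)) →
      TripABC a b 2 ↥(Cfsg.Lie.twistedG2 K (3 ^ m)) := by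
    intro a b ha hb hab ha2 ha3 hb2 hb3 haG hbG
    have h2G : 2 ∣ Nat.card ↥(Cfsg.Lie.twistedG2 K (3 ^ m)) := by
      rw [hcard]
      have h1 : 2 ∣ q - 1 := by omega
      exact (h1.mul_left _).mul_right _
    obtain ⟨x, y, z, hx, hy, hz, h1⟩ := trip_reg Nat.prime_three hG ha hb Nat.prime_two hab ha3 hb3
      haG hbG h2G (hno a ha ha2 ha3) (hno b hb hb2 hb3)
    exact TripABC.of_mult hM (fun s hs hsm => absurd (Nat.dvd_one.1 hsm) hs.one_lt.ne') ha hb Nat.prime_two hab ha2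
      hb2 hx hy hz h1
  intro p hp hp2 hpG
  by_cases hp3 : p = 3
  · -- `PSL₂(q)`
    left
    subst hp3
    have : Fact (Nat.Prime 3) := ⟨Nat.prime_three⟩
    obtain ⟨t, ht⟩ : ∃ t : ↥(Cfsg.Lie.twistedG2 K (3 ^ m)), orderOf t = 2 := by
      have : Fact (Nat.Prime 2) := ⟨Nat.prime_two⟩
      apply exists_prime_orderOf_dvd_card' 2
      rw [hcard]
      have h1 : 2 ∣ q - 1 := by omega
      exact (h1.mul_left _).mul_right _
    obtain ⟨f⟩ := Cfsg.Agent.H57.TTRee.ree_cent hm hK t ht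
    have hKq : Fintype.card K = q := by rw [hK, hQ]
    have hodd : Odd (Fintype.card K) := by rw [hKq, Nat.odd_iff]; omega
    have hP := Cfsg.Agent.ClassicalGeometry.PSL2Basic.card_PSL2_odd (F := K) hodd
    let g : Matrix.ProjectiveSpecialLinearGroup (Fin 2) K →* ↥(Cfsg.Lie.twistedG2 K (3 ^ m)) :=
      (Subgroup.subtype _).comp (f.symm.toMonoidHom.comp (MonoidHom.inl _ _))
    have hg : Function.Injective g := by
      intro x y hxy
      have h1 := f.symm.injective (Subtype.val_injective hxy)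
      exact (Prod.mk.inj h1).1
    have hPf : Finite (Matrix.ProjectiveSpecialLinearGroup (Fin 2) K) := Finite.of_injective g hg
    have hd : 3 ∣ Nat.card (Matrix.ProjectiveSpecialLinearGroup (Fin 2) K) := by
      rw [dvd_card_psl Nat.prime_three (by norm_num), hKq]
      exact h3q.mul_right _
    have hsim : IsSimpleGroup (Matrix.ProjectiveSpecialLinearGroup (Fin 2) K) :=
      Cfsg.Agent.TwoFusion.SLTwoFacts.isSimpleGroup_psl (by omega)
    have hna : ∃ x y : Matrix.ProjectiveSpecialLinearGroup (Fin 2) K, x * y ≠ y * x := by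
      by_contra hcon
      push Not at hcon
      exact Cfsg.Agent.ClassicalGeometry.PSL2Solvable.not_isSolvable_psl K (by omega) (Group.isSolvable_of_comm hcon)
    refine NotMin.of_injective g hg (not_isPSolvable_of_simple hna Nat.prime_three hd) ?_
    rw [hcard]
    have h1 : Nat.card (Matrix.ProjectiveSpecialLinearGroup (Fin 2) K) ≤ q * (q ^ 2 - 1) := by
      rw [hKq] at hP; omega
    have h2 : q * (q ^ 2 - 1) < q ^ 3 := by
      have : q * (q ^ 2 - 1) + q = q ^ 3 := by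
        have h4 : 1 ≤ q ^ 2 := Nat.one_le_pow _ _ (by omega)
        obtain ⟨k, hk⟩ : ∃ k, q ^ 2 = k + 1 := ⟨q ^ 2 - 1, by omega⟩
        rw [hk, Nat.add_sub_cancel, pow_succ, hk]; ring
      omega
    have h4 : q ^ 3 ≤ q ^ 3 * (q - 1) * (q ^ 3 + 1) := by
      rw [mul_assoc]
      exact Nat.le_mul_of_pos_right _ (Nat.mul_pos (by omega) (by positivity))
    omega
  · right
    have hb1 := Nat.minFac_prime (n := (q - 1) / 2) (by omega)
    have hb2 := Nat.minFac_prime (n := q * (q - 1) + 1) (by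
      have : 0 < q * (q - 1) := Nat.mul_pos (by omega) (by omega)
      omega)
    have hd1 := Nat.minFac_dvd ((q - 1) / 2)
    have hd2 := Nat.minFac_dvd (q * (q - 1) + 1)
    generalize ((q - 1) / 2).minFac = b1 at hb1 hd1
    generalize (q * (q - 1) + 1).minFac = b2 at hb2 hd2
    have hd1' : b1 ∣ q - 1 := hd1.trans (Nat.div_dvd_of_dvd (by omega))
    have h12 : b1 ≠ 2 := by
      rintro rfl
      omega
    have h13 : b1 ≠ 3 := by
      rintro rfl
      omega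
    have h22 : b2 ≠ 2 := by
      rintro rfl
      have h1 : 2 ∣ q * (q - 1) := (by omega : 2 ∣ q - 1).mul_left _
      omega
    have h23 : b2 ≠ 3 := by
      rintro rfl
      have h1 : 3 ∣ q * (q - 1) := h3q.mul_right _
      omega
    have h12' : b1 ≠ b2 := by
      rintro rfl
      have h1 := (Nat.dvd_add_right (hd1'.mul_left q)).1 hd2
      exact hb1.one_lt.ne' (Nat.dvd_one.1 h1)
    have hG1 : b1 ∣ Nat.card ↥(Cfsg.Lie.twistedG2 K (3 ^ m)) := by
      rw [hcard]; exact (hd1'.mul_left _).mul_right _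
    have hG2 : b2 ∣ Nat.card ↥(Cfsg.Lie.twistedG2 K (3 ^ m)) := by
      rw [hcard, h3]; exact (hd2.mul_left _).mul_left _
    by_cases hpb : p = b1
    · exact ⟨p, b2, 2, Or.inl rfl, Or.inr (Or.inr rfl), main p b2 hp hb2 (by rw [hpb]; exact h12') hp2 hp3 h22 h23
        hpG hG2⟩
    · exact ⟨p, b1, 2, Or.inl rfl, Or.inr (Or.inr rfl), main p b1 hp hb1 hpb hp2 hp3 h12 h13 hpG hG1⟩

end Ree

end Cfsg.Agent.H528.PQR
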